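import Mathlib
import Groth.Agent.Lib.FibreUnivInj.Basic

/-!
# Splitting off the part of a module killed by an element, over a local algebra over a field
-/

set_option autoImplicit false
set_option linter.style.haveILetI false
set_option maxHeartbeats 1000000
universe u

open TensorProduct IsLocalRing

namespace GrothLib.PureSpread

/-- The quotient by the killed part is projective and universally injective into a flat target which is fibrewise
injective on it. -/
theorem core {κ R k V M₁ N' N₁ : Type u} [Field κ] [CommRing R] [IsLocalRing R] [Algebra κ R] [Field k] [Algebra R k]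
    [Algebra κ k] [IsScalarTower κ R k] (hk : ∀ r : R, algebraMap R k r = 0 ↔ r ∈ maximalIdeal R)
    (hks : Function.Surjective (algebraMap R k))
    [AddCommGroup V] [Module κ V] [AddCommGroup M₁] [Module R M₁] [AddCommGroup N'] [Module R N']
    [AddCommGroup N₁] [Module R N₁]
    (γ : V →ₗ[κ] V) (η : M₁ →ₗ[R] M₁) (E : R ⊗[κ] V ≃ₗ[R] M₁) (hE : ∀ v, η (E (1 ⊗ₜ v)) = E (1 ⊗ₜ γ v))
    (q : M₁ →ₗ[R] N') (hq : Function.Surjective q) (hq0 : ∀ y, q y = 0 ↔ η y = 0) (g : N' →ₗ[R] N₁)
    (hker : ∀ d : k ⊗[R] M₁, (g ∘ₗ q).baseChange k d = 0 → η.baseChange k d = 0) :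
    Module.Free R N' ∧
      (Module.Flat R N₁ → ∀ (Q : Type u) [AddCommGroup Q] [Module R Q], Function.Injective (g.lTensor Q)) := by
  classical
  obtain ⟨W, hW⟩ := Submodule.exists_isCompl (LinearMap.ker γ)
  let γW : W →ₗ[κ] V := γ ∘ₗ W.subtype
  have hγW : Function.Injective γW := (injective_iff_map_eq_zero _).2 fun w hw => by
    have h' : (w : V) ∈ LinearMap.ker γ ⊓ W := ⟨hw, w.2⟩
    rw [hW.inf_eq_bot] at h'
    exact Subtype.ext h'
  have hηE : ∀ t, η (E t) = E (γ.baseChange R t) := fun t => by
    induction t using TensorProduct.induction_on with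
    | zero => simp only [map_zero]
    | tmul r v =>
      rw [show r ⊗ₜ[κ] v = r • ((1 : R) ⊗ₜ[κ] v) by rw [TensorProduct.smul_tmul', smul_eq_mul, mul_one], map_smul,
        map_smul, map_smul, map_smul, LinearMap.baseChange_tmul, hE]
    | add a b ha hb => simp only [map_add, ha, hb]
  let EW : R ⊗[κ] W →ₗ[R] N' := q ∘ₗ E.toLinearMap ∘ₗ W.subtype.baseChange R
  have hbij : Function.Bijective EW := by
    constructor
    · refine (injective_iff_map_eq_zero _).2 fun t ht => ?_
      have h1 : η (E (W.subtype.baseChange R t)) = 0 := (hq0 _).1 ht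
      rw [hηE, LinearEquiv.map_eq_zero_iff] at h1
      have h2 : γW.baseChange R t = 0 := by rw [LinearMap.baseChange_comp]; exact h1
      exact Module.Flat.lTensor_preserves_injective_linearMap (M := R) γW hγW (h2.trans (map_zero _).symm)
    · intro z
      obtain ⟨y, rfl⟩ := hq z
      obtain ⟨t, rfl⟩ := E.surjective y
      induction t using TensorProduct.induction_on with
      | zero => exact ⟨0, by simp only [map_zero]⟩
      | tmul r v =>
        obtain ⟨⟨v0, w⟩, hvw⟩ := (Submodule.prodEquivOfIsCompl _ _ hW).surjective v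
        refine ⟨r ⊗ₜ w, ?_⟩
        rw [show v = (v0 : V) + (w : V) from hvw.symm, tmul_add, map_add, map_add]
        have h0 : q (E (r ⊗ₜ (v0 : V))) = 0 := (hq0 _).2 (by
          show η (E (r ⊗ₜ (v0 : V))) = 0
          rw [hηE, LinearMap.baseChange_tmul, show γ (v0 : V) = 0 from v0.2, tmul_zero, map_zero])
        rw [h0, zero_add]
        rfl
      | add a b ha hb =>
        obtain ⟨x, hx⟩ := ha
        obtain ⟨y, hy⟩ := hb
        exact ⟨x + y, by rw [map_add, hx, hy, map_add, map_add]⟩
  let eW : R ⊗[κ] W ≃ₗ[R] N' := LinearEquiv.ofBijective EW hbij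
  let bW := Module.Basis.ofVectorSpace κ W
  let bF := bW.baseChange R
  refine ⟨Module.Free.of_basis (bF.map eW), fun hflat Q _ _ => ?_⟩
  have := hflat
  let φ : R ⊗[κ] W →ₗ[R] N₁ := g ∘ₗ EW
  let gk : N₁ →ₗ[R] k ⊗[R] N₁ := TensorProduct.mk R k N₁ 1
  let Ek : k ⊗[κ] V ≃ₗ[k] k ⊗[R] M₁ :=
    (AlgebraTensorModule.cancelBaseChange κ R k k V).symm ≪≫ₗ E.baseChange R k _ _
  have hEk : ∀ (c : k) (v : V), Ek (c ⊗ₜ v) = c ⊗ₜ E (1 ⊗ₜ v) := fun c v => rfl
  have hkη : ∀ v : k ⊗[κ] V, η.baseChange k (Ek v) = Ek (γ.baseChange k v) := fun v => by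
    induction v using TensorProduct.induction_on with
    | zero => simp only [map_zero]
    | tmul c v => rw [LinearMap.baseChange_tmul, hEk, hEk, LinearMap.baseChange_tmul, hE]
    | add a b ha hb => simp only [map_add, ha, hb]
  let θ : k ⊗[κ] W →ₗ[k] k ⊗[R] N₁ :=
    (g ∘ₗ q).baseChange k ∘ₗ Ek.toLinearMap ∘ₗ W.subtype.baseChange k
  have hθ : Function.Injective θ := by
    refine (injective_iff_map_eq_zero _).2 fun y hy => ?_
    have h1 := hker _ hy
    rw [LinearMap.comp_apply, LinearEquiv.coe_coe, hkη, LinearEquiv.map_eq_zero_iff] at h1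
    have h2 : γW.baseChange k y = 0 := by rw [LinearMap.baseChange_comp]; exact h1
    exact Module.Flat.lTensor_preserves_injective_linearMap (M := k) γW hγW (h2.trans (map_zero _).symm)
  have hind : LinearIndependent k fun i => gk (φ (bF i)) := by
    have h1 := (bW.baseChange k).linearIndependent.map' _ (LinearMap.ker_eq_bot.2 hθ)
    have he : (fun i => gk (φ (bF i))) = θ ∘ bW.baseChange k := funext fun i => by
      simp only [θ, φ, gk, bF, Function.comp_apply, LinearMap.comp_apply, Module.Basis.baseChange_apply,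
        LinearMap.baseChange_tmul, LinearEquiv.coe_coe, TensorProduct.mk_apply]
      rw [hEk, LinearMap.baseChange_tmul]
      rfl
    rw [he]
    exact h1
  have hφ := GrothLib.FibreUnivInj.rTensor_injective_of_indep hk hks bF φ gk hind Q
  have hfac : g = φ ∘ₗ eW.symm.toLinearMap := LinearMap.ext fun z => by
    show g z = g (EW (eW.symm z))
    rw [show EW (eW.symm z) = z from eW.apply_symm_apply z]
  rw [hfac, LinearMap.lTensor_comp]
  exact hφ.comp (eW.symm.lTensor Q).injective

end GrothLib.PureSpread
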