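import Mathlib
import Groth.Agent.Lib.FibreUnivInj.Basic

/-!
# Models over a finitely generated subring, compatibly with the polynomial action
-/

set_option autoImplicit false
set_option linter.style.haveILetI false
set_option maxHeartbeats 1000000
universe u

open TensorProduct

namespace GrothLib.PureSpread

attribute [local instance] MvPolynomial.algebraMvPolynomial

variable {A : Type u} [CommRing A] {n : ℕ}

/-- A finitely presented module over a polynomial ring with a chosen polynomial comes from a finitely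
generated subring, compatibly with the polynomial action. -/
theorem exists_model (N₁ : Type u) [AddCommGroup N₁] [Module (MvPolynomial (Fin n) A) N₁] [Module A N₁]
    [IsScalarTower A (MvPolynomial (Fin n) A) N₁] [Module.FinitePresentation (MvPolynomial (Fin n) A) N₁]
    (h : MvPolynomial (Fin n) A) :
    ∃ (A₀ : Subalgebra ℤ A) (_ : IsNoetherianRing A₀) (N₀ : Type u) (_ : AddCommGroup N₀)
      (_ : Module (MvPolynomial (Fin n) A₀) N₀) (_ : Module A₀ N₀) (_ : IsScalarTower A₀ (MvPolynomial (Fin n) A₀) N₀)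
      (_ : Module.Finite (MvPolynomial (Fin n) A₀) N₀) (h₀ : MvPolynomial (Fin n) A₀) (e : A ⊗[A₀] N₀ ≃ₗ[A] N₁),
      MvPolynomial.map (algebraMap A₀ A) h₀ = h ∧
      ∀ (f : MvPolynomial (Fin n) A₀) (y : N₀), e (1 ⊗ₜ (f • y)) = MvPolynomial.map (algebraMap A₀ A) f • e (1 ⊗ₜ y) := by
  classical
  obtain ⟨T, hT⟩ := GrothLib.FlatModel.exists_model' N₁ (Fin.elim0 : Fin 0 → MvPolynomial (Fin n) A) fun j => j.elim0
  let T' : Finset A := T ∪ h.support.image h.coeff
  let A₀ : Subalgebra ℤ A := Algebra.adjoin ℤ (T' : Set A)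
  have hTr : (T : Set A) ⊆ Set.range (algebraMap A₀ A) := fun x hx =>
    ⟨⟨x, Algebra.subset_adjoin (Finset.mem_coe.2 (Finset.mem_union_left _ hx))⟩, rfl⟩
  obtain ⟨r, K, -, ⟨eM⟩⟩ := hT A₀ hTr
  obtain ⟨h₀, hh₀⟩ : ∃ h₀, MvPolynomial.map (algebraMap A₀ A) h₀ = h := by
    refine ⟨∑ d ∈ h.support.attach, MvPolynomial.monomial d.1
      (⟨h.coeff d.1, Algebra.subset_adjoin (Finset.mem_coe.2 (Finset.mem_union_right _ (Finset.mem_image_of_mem _ d.2)))⟩ : A₀), ?_⟩
    rw [map_sum]
    simp only [MvPolynomial.map_monomial]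
    exact (Finset.sum_attach h.support (fun d => MvPolynomial.monomial d (h.coeff d))).trans h.support_sum_monomial_coeff
  let P₀ := MvPolynomial (Fin n) A₀
  let N₀ := (Fin r → P₀) ⧸ K
  let E := Algebra.IsPushout.cancelBaseChange A₀ A P₀ (MvPolynomial (Fin n) A) N₀
  let e : A ⊗[A₀] N₀ ≃ₗ[A] N₁ :=
    { E.symm.toAddEquiv.trans eM.toAddEquiv with
      map_smul' := fun c x => by
        show eM (E.symm (c • x)) = c • eM (E.symm x)
        exact (congrArg eM (E.symm.map_smul c x)).trans (eM.toLinearMap.map_smul_of_tower c _) }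
  refine ⟨A₀, isNoetherianRing_of_fg (Subalgebra.fg_adjoin_finset T'), N₀, inferInstance, inferInstance, inferInstance,
    inferInstance, inferInstance, h₀, e, hh₀, fun f y => ?_⟩
  have hE : ∀ z : N₀, E.symm ((1 : A) ⊗ₜ[A₀] z) = (1 : MvPolynomial (Fin n) A) ⊗ₜ[P₀] z := fun z => by
    rw [LinearEquiv.symm_apply_eq]
    exact (Algebra.IsPushout.cancelBaseChange_tmul A₀ A P₀ (MvPolynomial (Fin n) A) N₀ z).symm
  show eM (E.symm (1 ⊗ₜ (f • y))) = MvPolynomial.map (algebraMap A₀ A) f • eM (E.symm (1 ⊗ₜ y))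
  rw [hE, hE, ← map_smul eM, TensorProduct.smul_tmul', TensorProduct.tmul_smul, ← algebraMap_smul
    (MvPolynomial (Fin n) A) f, TensorProduct.smul_tmul']
  rfl

end GrothLib.PureSpread
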