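import Mathlib
import Groth.Prelude.Def_FlatCA
import Groth.Agent.Lib.FlatDesc.Algebra
import Groth.Agent.Lib.PureSpread.Model
import Groth.Agent.Lib.PureSpread.Core

/-!
# Pure spreadouts after a local finitely generated quotient of the base
-/

set_option autoImplicit false
set_option linter.style.haveILetI false
set_option maxHeartbeats 4000000
universe u

open TensorProduct IsLocalRing

namespace GrothLib.PureSpread

/-- A kernel of a base change over a quotient of the local ring is finitely generated. -/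
theorem killed_le_span {κ R B₁ M₁ : Type u} {A₀ P₀ N₀ : Type u} [Field κ] [CommRing A₀] [Algebra A₀ κ] [CommRing R]
    [Algebra κ R] [CommRing P₀] [Algebra A₀ P₀] [AddCommGroup N₀] [Module P₀ N₀] [Module A₀ N₀] [IsScalarTower A₀ P₀ N₀]
    [IsNoetherian P₀ N₀] [CommRing B₁] [Algebra R B₁] [AddCommGroup M₁] [Module B₁ M₁] [Module R M₁] [IsScalarTower R B₁ M₁]
    (hfrac : ∀ c : κ, ∃ a s : A₀, algebraMap A₀ κ s ≠ 0 ∧ c * algebraMap A₀ κ s = algebraMap A₀ κ a)
    (h₀ : P₀) (E : R ⊗[κ] (κ ⊗[A₀] N₀) ≃ₗ[R] M₁) (π₀ : P₀ →+* B₁)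
    (hπ : ∀ (f : P₀) (y : N₀), E (1 ⊗ₜ (1 ⊗ₜ (f • y))) = π₀ f • E (1 ⊗ₜ (1 ⊗ₜ y))) :
    (LinearMap.ker (LinearMap.lsmul B₁ M₁ (π₀ h₀))).FG := by
  classical
  let γ₀ : P₀ → N₀ →ₗ[A₀] N₀ := fun f => (LinearMap.lsmul P₀ N₀ f).restrictScalars A₀
  let γ : κ ⊗[A₀] N₀ →ₗ[κ] κ ⊗[A₀] N₀ := (γ₀ h₀).baseChange κ
  let K₀ : Submodule P₀ N₀ :=
    { carrier := {y | (1 : κ) ⊗ₜ[A₀] (h₀ • y) = (0 : κ ⊗[A₀] N₀)}
      add_mem' := fun {a b} ha hb => by
        show (1 : κ) ⊗ₜ[A₀] (h₀ • (a + b)) = 0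
        rw [smul_add, tmul_add, ha, hb, add_zero]
      zero_mem' := by show (1 : κ) ⊗ₜ[A₀] (h₀ • (0 : N₀)) = 0; rw [smul_zero, tmul_zero]
      smul_mem' := fun f y hy => by
        show (1 : κ) ⊗ₜ[A₀] (h₀ • f • y) = 0
        rw [smul_comm h₀ f y]
        have h1 : (γ₀ f).baseChange κ ((1 : κ) ⊗ₜ[A₀] (h₀ • y)) = 0 := (congrArg _ hy).trans (map_zero _)
        exact h1 }
  obtain ⟨G, hG⟩ := IsNoetherian.noetherian K₀
  let GM : Finset M₁ := G.image fun y => E (1 ⊗ₜ (1 ⊗ₜ y))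
  refine ⟨GM, le_antisymm (Submodule.span_le.2 ?_) ?_⟩
  · intro z hz
    obtain ⟨y, hy, rfl⟩ := Finset.mem_image.1 (Finset.mem_coe.1 hz)
    have hy' : (1 : κ) ⊗ₜ[A₀] (h₀ • y) = 0 := (hG ▸ Submodule.subset_span hy : y ∈ K₀)
    show π₀ h₀ • E (1 ⊗ₜ (1 ⊗ₜ y)) = 0
    rw [← hπ, hy', tmul_zero, map_zero]
  -- all elements of the fibre are fractions
  have hv : ∀ v : κ ⊗[A₀] N₀, ∃ (s : A₀) (y : N₀), algebraMap A₀ κ s ≠ 0 ∧ algebraMap A₀ κ s • v = 1 ⊗ₜ y := fun v => by
    induction v using TensorProduct.induction_on with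
    | zero => exact ⟨1, 0, by rw [map_one]; exact one_ne_zero, by rw [smul_zero, tmul_zero]⟩
    | tmul c y =>
      obtain ⟨a, s, hs, hca⟩ := hfrac c
      refine ⟨s, a • y, hs, ?_⟩
      rw [TensorProduct.smul_tmul', smul_eq_mul, mul_comm, hca, Algebra.algebraMap_eq_smul_one, TensorProduct.smul_tmul]
    | add v w hv hw =>
      obtain ⟨s, y, hs, hy⟩ := hv
      obtain ⟨t, z, ht, hz⟩ := hw
      refine ⟨s * t, t • y + s • z, by rw [map_mul]; exact mul_ne_zero hs ht, ?_⟩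
      rw [tmul_add, tmul_smul, tmul_smul, ← hy, ← hz, map_mul, smul_add, ← algebraMap_smul κ t,
        ← algebraMap_smul κ s (algebraMap A₀ κ t • w), smul_smul, smul_smul, mul_comm (algebraMap A₀ κ s)]
  intro x hx
  have hηE : ∀ t, π₀ h₀ • E t = E (γ.baseChange R t) := fun t => by
    induction t using TensorProduct.induction_on with
    | zero => simp only [map_zero, smul_zero]
    | tmul r v =>
      induction v using TensorProduct.induction_on with
      | zero => simp only [tmul_zero, map_zero, smul_zero]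
      | tmul c y =>
        have h1 : r ⊗ₜ[κ] (c ⊗ₜ[A₀] y) = (r * algebraMap κ R c) • ((1 : R) ⊗ₜ[κ] ((1 : κ) ⊗ₜ[A₀] y)) := by
          rw [TensorProduct.smul_tmul', smul_eq_mul, mul_one, mul_comm, ← Algebra.smul_def, TensorProduct.smul_tmul,
            TensorProduct.smul_tmul', smul_eq_mul, mul_one]
        rw [h1, map_smul, map_smul, map_smul, LinearMap.baseChange_tmul, LinearMap.baseChange_tmul,
          show γ₀ h₀ y = h₀ • y from rfl, hπ, ← algebraMap_smul B₁ (r * algebraMap κ R c), smul_smul, mul_comm,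
          ← smul_smul, algebraMap_smul]
      | add a b ha hb => simp only [tmul_add, map_add, smul_add, ha, hb]
    | add a b ha hb => simp only [map_add, smul_add, ha, hb]
  obtain ⟨t, rfl⟩ := E.surjective x
  have ht : γ.baseChange R t = 0 := by
    refine E.injective ?_
    rw [← hηE, map_zero]
    exact hx
  obtain ⟨t', rfl⟩ := (Module.Flat.lTensor_exact R (N := LinearMap.ker γ) (N' := κ ⊗[A₀] N₀) (N'' := κ ⊗[A₀] N₀) (LinearMap.exact_subtype_ker_map γ) t).1 ht
  clear ht hx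
  induction t' using TensorProduct.induction_on with
  | zero => rw [map_zero, map_zero]; exact zero_mem _
  | tmul r v0 =>
    obtain ⟨s, y, hs, hy⟩ := hv v0
    have hy0 : y ∈ K₀ := by
      show (1 : κ) ⊗ₜ[A₀] (h₀ • y) = 0
      have h1 : γ ((1 : κ) ⊗ₜ[A₀] y) = 0 := by rw [← hy, map_smul, show γ (v0 : κ ⊗[A₀] N₀) = 0 from v0.2, smul_zero]
      exact h1
    have hv0 : (v0 : κ ⊗[A₀] N₀) = (algebraMap A₀ κ s)⁻¹ • ((1 : κ) ⊗ₜ[A₀] y) := by
      rw [← hy, smul_smul, inv_mul_cancel₀ hs, one_smul]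
    rw [LinearMap.lTensor_tmul, Submodule.subtype_apply, hv0, tmul_smul,
      show r ⊗ₜ[κ] ((1 : κ) ⊗ₜ[A₀] y) = r • ((1 : R) ⊗ₜ[κ] ((1 : κ) ⊗ₜ[A₀] y)) by
        rw [TensorProduct.smul_tmul', smul_eq_mul, mul_one],
      ← algebraMap_smul R (algebraMap A₀ κ s)⁻¹, map_smul, map_smul, ← algebraMap_smul B₁ r,
      ← algebraMap_smul B₁ (algebraMap κ R (algebraMap A₀ κ s)⁻¹)]
    refine Submodule.smul_mem _ _ (Submodule.smul_mem _ _ ?_)
    rw [← hG] at hy0
    clear hy hv0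
    induction hy0 using Submodule.span_induction with
    | mem y hy => exact Submodule.subset_span (Finset.mem_image_of_mem _ hy)
    | zero => rw [tmul_zero, tmul_zero, map_zero]; exact zero_mem _
    | add a b _ _ ha hb => rw [tmul_add, tmul_add, map_add]; exact add_mem ha hb
    | smul f y _ hy => rw [hπ]; exact Submodule.smul_mem _ _ hy
  | add a b ha hb => rw [map_add, map_add]; exact add_mem ha hb

/-- A pure spreadout exists after passing to a finitely generated quotient of the local ring. -/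
theorem exists_pureSpreadout {A B : Type u} [CommRing A] [CommRing B] [Algebra A B] {n : ℕ}
    (π : MvPolynomial (Fin n) A →ₐ[A] B) (hπs : Function.Surjective π)
    (T : Submonoid B) {N₀B N : Type u} [AddCommGroup N₀B] [Module B N₀B] [Module A N₀B] [IsScalarTower A B N₀B]
    [Module.FinitePresentation B N₀B] [Module (MvPolynomial (Fin n) A) N₀B]
    [IsScalarTower A (MvPolynomial (Fin n) A) N₀B] [Module.FinitePresentation (MvPolynomial (Fin n) A) N₀B]
    (hπsmul : ∀ (f : MvPolynomial (Fin n) A) (x : N₀B), f • x = π f • x)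
    [AddCommGroup N] [Module B N] [Module A N] [IsScalarTower A B N] (ι : N₀B →ₗ[B] N) [IsLocalizedModule T ι]
    (p : Ideal A) [p.IsPrime] :
    ∃ I : Ideal (Localization.AtPrime p), I.FG ∧ I ≤ maximalIdeal (Localization.AtPrime p) ∧
      ∀ (B₁ N₁ : Type u) [CommRing B₁] [Algebra B B₁] [Algebra (Localization.AtPrime p ⧸ I) B₁] [Algebra A B₁]
        [IsScalarTower A B B₁] [IsScalarTower A (Localization.AtPrime p ⧸ I) B₁]
        [Algebra.IsPushout A B (Localization.AtPrime p ⧸ I) B₁]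
        [AddCommGroup N₁] [Module (Localization (T.map (algebraMap B B₁))) N₁] [Module (Localization.AtPrime p ⧸ I) N₁]
        [IsScalarTower (Localization.AtPrime p ⧸ I) (Localization (T.map (algebraMap B B₁))) N₁]
        [Module B N₁] [IsScalarTower B (Localization (T.map (algebraMap B B₁))) N₁]
        [Module A N₁] [IsScalarTower A (Localization.AtPrime p ⧸ I) N₁] [IsScalarTower A B N₁]
        (hN : N →ₗ[B] N₁), IsBaseChange (Localization.AtPrime p ⧸ I) (hN.restrictScalars A) →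
        FlatCA.HasPureSpreadout (Localization.AtPrime p ⧸ I) B₁ (T.map (algebraMap B B₁)) N₁ := by
  classical
  let P := MvPolynomial (Fin n) A
  let Rp := Localization.AtPrime p
  letI : Module P N := Module.compHom N π.toRingHom
  haveI : IsScalarTower A P N := IsScalarTower.of_algebraMap_smul fun a x => by
    show π (algebraMap A P a) • x = a • x
    rw [AlgHom.commutes, algebraMap_smul]
  let ιP : N₀B →ₗ[P] N :=
    { toFun := ι
      map_add' := ι.map_add
      map_smul' := fun f x => by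
        show ι (f • x) = π f • ι x
        rw [hπsmul, map_smul] }
  let TP : Submonoid P := T.comap π.toRingHom
  haveI : IsLocalizedModule TP ιP := by
    refine ⟨fun t => ?_, fun y => ?_, fun {x y} hxy => ?_⟩
    · have h1 := IsLocalizedModule.map_units ι (⟨π (t : P), t.2⟩ : T)
      rw [Module.End.isUnit_iff] at h1 ⊢
      exact h1
    · obtain ⟨⟨x, t⟩, hx⟩ := IsLocalizedModule.surj T ι y
      obtain ⟨t', ht'⟩ := hπs t.1
      refine ⟨⟨x, ⟨t', show π t' ∈ T from ht' ▸ t.2⟩⟩, ?_⟩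
      exact (congrArg (fun b => b • y) ht').trans hx
    · obtain ⟨t, ht⟩ := IsLocalizedModule.exists_of_eq (S := T) (f := ι) hxy
      obtain ⟨t', ht'⟩ := hπs t.1
      refine ⟨⟨t', show π t' ∈ T from ht' ▸ t.2⟩, ?_⟩
      show t' • x = t' • y
      rw [hπsmul, hπsmul, show π t' = t.1 from ht']
      exact ht
  obtain ⟨h, hS, hker⟩ := GrothLib.FibreUnivInj.exists_ker_killed (A := A) TP ιP p
  obtain ⟨A₀, hA₀, N₀, _, _, _, _, _, h₀, e, hh₀, he⟩ := exists_model N₀B h
  let P₀ := MvPolynomial (Fin n) A₀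
  haveI : IsNoetherian P₀ N₀ := isNoetherian_of_isNoetherianRing_of_finite P₀ N₀
  let q₀ : Ideal A₀ := p.comap (algebraMap A₀ A)
  let I : Ideal Rp := q₀.map ((algebraMap A Rp).comp (algebraMap A₀ A))
  have hIle : I ≤ maximalIdeal Rp := by
    rw [Ideal.map_le_iff_le_comap]
    intro x hx
    exact (IsLocalization.AtPrime.to_map_mem_maximal_iff Rp p _).2 hx
  have hItop : I ≠ ⊤ := fun h' => (IsLocalRing.maximalIdeal.isMaximal Rp).ne_top (top_le_iff.1 (h' ▸ hIle))
  refine ⟨I, Ideal.FG.map (IsNoetherian.noetherian q₀) _, hIle, ?_⟩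
  intro B₁ N₁ _ _ _ _ _ _ _ _ _ _ _ _ _ _ _ _ hN hbc
  let R := Rp ⧸ I
  let k := p.ResidueField
  let κ := q₀.ResidueField
  haveI : Nontrivial R := Ideal.Quotient.nontrivial_iff.2 hItop
  haveI : IsLocalRing R := .of_surjective' (Ideal.Quotient.mk I) Ideal.Quotient.mk_surjective
  haveI : IsScalarTower A₀ A R := inferInstance
  haveI : IsScalarTower A₀ A k := inferInstance
  let ρ : R →+* k := Ideal.Quotient.lift I (IsLocalRing.residue Rp) fun x hx => residue_eq_zero_iff _ |>.2 (hIle hx)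
  letI : Algebra R k := ρ.toAlgebra
  haveI : IsScalarTower A R k :=
    have h' : @IsScalarTower A R k Algebra.toSMul Algebra.toSMul Algebra.toSMul := IsScalarTower.of_algebraMap_eq fun a => rfl
    h'
  have hq0 : q₀ ≤ RingHom.ker (algebraMap A₀ R) := fun x hx => by
    show Ideal.Quotient.mk I (algebraMap A Rp (algebraMap A₀ A x)) = 0
    exact Ideal.Quotient.eq_zero_iff_mem.2 (Ideal.mem_map_of_mem _ hx)
  have hqu : q₀.primeCompl ≤ (IsUnit.submonoid R).comap (algebraMap A₀ R) := fun x hx => by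
    show IsUnit (Ideal.Quotient.mk I (algebraMap A Rp (algebraMap A₀ A x)))
    exact (IsLocalization.map_units Rp (⟨algebraMap A₀ A x, hx⟩ : p.primeCompl)).map _
  obtain ⟨σ, hσ⟩ : ∃ σ : κ →+* R, ∀ x, σ (algebraMap A₀ κ x) = algebraMap A₀ R x :=
    ⟨Ideal.ResidueField.lift q₀ (algebraMap A₀ R) hq0 hqu, Ideal.ResidueField.lift_algebraMap q₀ (algebraMap A₀ R) hq0 hqu⟩
  letI : Algebra κ R := σ.toAlgebra
  haveI : IsScalarTower A₀ κ R := IsScalarTower.of_algebraMap_eq fun x => (hσ x).symm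
  letI : Algebra κ k := (ρ.comp σ).toAlgebra
  haveI : IsScalarTower κ R k := IsScalarTower.of_algebraMap_eq' rfl
  have hk : ∀ r : R, algebraMap R k r = 0 ↔ r ∈ maximalIdeal R := fun r => by
    obtain ⟨x, rfl⟩ := Ideal.Quotient.mk_surjective r
    show IsLocalRing.residue Rp x = 0 ↔ _
    rw [residue_eq_zero_iff, ← IsLocalRing.map_maximalIdeal_of_surjective (Ideal.Quotient.mk I) Ideal.Quotient.mk_surjective,
      Ideal.mem_quotient_iff_mem_sup, sup_eq_left.2 hIle]
  have hks : Function.Surjective (algebraMap R k) := fun y => by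
    obtain ⟨x, rfl⟩ := residue_surjective (R := Rp) y
    exact ⟨Ideal.Quotient.mk I x, rfl⟩
  -- the base change of the finitely presented model
  haveI : Algebra.IsPushout A R B B₁ := Algebra.IsPushout.symm ‹_›
  let M₁ := B₁ ⊗[B] N₀B
  let cA : M₁ ≃ₗ[R] R ⊗[A] N₀B := Algebra.IsPushout.cancelBaseChange A R B B₁ N₀B
  have hcA : ∀ x : N₀B, cA.symm ((1 : R) ⊗ₜ x) = (1 : B₁) ⊗ₜ x := fun x => by
    rw [LinearEquiv.symm_apply_eq]
    exact (Algebra.IsPushout.cancelBaseChange_tmul A R B B₁ N₀B x).symm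
  obtain ⟨E, hE⟩ : ∃ E : R ⊗[κ] (κ ⊗[A₀] N₀) ≃ₗ[R] M₁, ∀ y : N₀, E (1 ⊗ₜ (1 ⊗ₜ y)) = (1 : B₁) ⊗ₜ e (1 ⊗ₜ y) := by
    refine ⟨AlgebraTensorModule.cancelBaseChange A₀ κ R R N₀ ≪≫ₗ (AlgebraTensorModule.cancelBaseChange A₀ A R R N₀).symm ≪≫ₗ
      e.baseChange A R _ _ ≪≫ₗ cA.symm, fun y => ?_⟩
    show cA.symm ((((1 : κ) • (1 : R)) : R) ⊗ₜ[A] e (1 ⊗ₜ y)) = _
    rw [one_smul, hcA]
  have hb : ∀ (b : B) (x : N₀B), algebraMap B B₁ b • ((1 : B₁) ⊗ₜ[B] x) = (1 : B₁) ⊗ₜ[B] (b • x) := fun b x => by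
    rw [algebraMap_smul, tmul_smul]
  let π₀ : P₀ →+* B₁ := ((algebraMap B B₁).comp π.toRingHom).comp (MvPolynomial.map (algebraMap A₀ A))
  have hπ₀ : ∀ (f : P₀) (y : N₀), E (1 ⊗ₜ (1 ⊗ₜ (f • y))) = π₀ f • E (1 ⊗ₜ (1 ⊗ₜ y)) := fun f y => by
    rw [hE, hE, he, hπsmul]
    exact (hb _ _).symm
  have hfrac : ∀ c : κ, ∃ a s : A₀, algebraMap A₀ κ s ≠ 0 ∧ c * algebraMap A₀ κ s = algebraMap A₀ κ a := fun c => by
    obtain ⟨⟨a, s⟩, hx⟩ := IsLocalization.surj (nonZeroDivisors (A₀ ⧸ q₀)) c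
    obtain ⟨a', rfl⟩ := Ideal.Quotient.mk_surjective a
    obtain ⟨s', hs'⟩ := Ideal.Quotient.mk_surjective (s : A₀ ⧸ q₀)
    refine ⟨a', s', ?_, ?_⟩
    · rw [IsScalarTower.algebraMap_apply A₀ (A₀ ⧸ q₀) κ, Ideal.Quotient.algebraMap_eq, hs']
      exact (IsLocalization.map_units κ s).ne_zero
    · rw [IsScalarTower.algebraMap_apply A₀ (A₀ ⧸ q₀) κ, Ideal.Quotient.algebraMap_eq, hs', hx,
        IsScalarTower.algebraMap_apply A₀ (A₀ ⧸ q₀) κ a', Ideal.Quotient.algebraMap_eq]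
  let K : Submodule B₁ M₁ := LinearMap.ker (LinearMap.lsmul B₁ M₁ (π₀ h₀))
  have hKfg : K.FG := killed_le_span hfrac h₀ E π₀ hπ₀
  have hπh : π₀ h₀ = algebraMap B B₁ (π h) := by
    show algebraMap B B₁ (π (MvPolynomial.map (algebraMap A₀ A) h₀)) = _
    rw [hh₀]
  -- the localization
  let T₁ := T.map (algebraMap B B₁)
  let L₁ := Localization T₁
  letI : Module B₁ N₁ := Module.compHom N₁ (algebraMap B₁ L₁)
  haveI : IsScalarTower B₁ L₁ N₁ := IsScalarTower.of_algebraMap_smul fun _ _ => rfl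
  haveI : IsScalarTower B B₁ N₁ := IsScalarTower.of_algebraMap_smul fun b x => by
    show algebraMap B₁ L₁ (algebraMap B B₁ b) • x = b • x
    rw [← IsScalarTower.algebraMap_apply, algebraMap_smul]
  haveI : IsScalarTower R B₁ N₁ := IsScalarTower.of_algebraMap_smul fun r x => by
    show algebraMap B₁ L₁ (algebraMap R B₁ r) • x = r • x
    rw [← IsScalarTower.algebraMap_apply, algebraMap_smul]
  have hcomm : ∀ (b : B) (r : R) (x : N₁), b • r • x = r • b • x := fun b r x => by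
    rw [← algebraMap_smul B₁ b, ← algebraMap_smul B₁ r, ← algebraMap_smul B₁ r (b • x), ← algebraMap_smul B₁ b x,
      smul_smul, smul_smul, mul_comm]
  let gB : M₁ →ₗ[B₁] N₁ := (TensorProduct.isBaseChange B N₀B B₁).lift (hN ∘ₗ ι)
  have hgB : ∀ x : N₀B, gB ((1 : B₁) ⊗ₜ x) = hN (ι x) := fun x =>
    (TensorProduct.isBaseChange B N₀B B₁).lift_eq (hN ∘ₗ ι) x
  let eN : R ⊗[A] N ≃ₗ[R] N₁ := hbc.equiv
  have heN : ∀ (r : R) (y : N), eN (r ⊗ₜ y) = r • hN y := fun r y => rfl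
  have hgR : ∀ z : R ⊗[A] N₀B, gB (cA.symm z) = eN ((ι.restrictScalars A).lTensor R z) := fun z => by
    induction z using TensorProduct.induction_on with
    | zero => simp only [map_zero]
    | tmul r x =>
      conv_lhs => rw [show r ⊗ₜ[A] x = r • ((1 : R) ⊗ₜ[A] x) by rw [TensorProduct.smul_tmul', smul_eq_mul, mul_one],
        map_smul, hcA, LinearMap.map_smul_of_tower, hgB]
      rw [LinearMap.lTensor_tmul, heN]
      rfl
    | add a b ha hb => simp only [map_add, ha, hb]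
  have hTunit : ∀ t : T, ∀ x : N₁, (t : B) • x = 0 → x = 0 := fun t x hx => by
    have hu : IsUnit (algebraMap B L₁ (t : B)) := by
      rw [IsScalarTower.algebraMap_apply B B₁ L₁]
      exact IsLocalization.map_units L₁ (⟨_, Submonoid.mem_map_of_mem _ t.2⟩ : T₁)
    rwa [← algebraMap_smul L₁ (t : B), hu.smul_eq_zero] at hx
  have hsurj : ∀ y : N₁, ∃ (t : T) (x : M₁), (t : B) • y = gB x := fun y => by
    obtain ⟨w, rfl⟩ := eN.surjective y
    induction w using TensorProduct.induction_on with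
    | zero => exact ⟨1, 0, by simp only [map_zero, smul_zero]⟩
    | tmul r z =>
      obtain ⟨⟨x, t⟩, hx⟩ := IsLocalizedModule.surj T ι z
      refine ⟨t, r • ((1 : B₁) ⊗ₜ x), ?_⟩
      rw [heN, hcomm, ← map_smul, show (t : B) • z = ι x from hx, LinearMap.map_smul_of_tower, hgB]
    | add a b ha hb =>
      obtain ⟨s, x, hx⟩ := ha
      obtain ⟨t, y, hy⟩ := hb
      refine ⟨s * t, (t : B) • x + (s : B) • y, ?_⟩
      rw [map_add, map_add, LinearMap.map_smul_of_tower, LinearMap.map_smul_of_tower, ← hx, ← hy, smul_add, Submonoid.coe_mul,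
        smul_smul, smul_smul, mul_comm (t : B)]
  have hzero : ∀ x : M₁, gB x = 0 → ∃ t : T, (t : B) • x = 0 := fun x hx => by
    obtain ⟨z, rfl⟩ := cA.symm.surjective x
    rw [hgR, LinearEquiv.map_eq_zero_iff] at hx
    let f1 := TensorProduct.comm A R N₀B
    have h0 : AlgebraTensorModule.rTensor A R ι (f1 z) = 0 := by
      have hh : ∀ z, AlgebraTensorModule.rTensor A R ι (f1 z) = TensorProduct.comm A R N ((ι.restrictScalars A).lTensor R z) :=
        fun z => by
          induction z using TensorProduct.induction_on with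
          | zero => simp only [map_zero]
          | tmul a x => rfl
          | add a b ha hb => simp only [map_add, ha, hb]
      rw [hh, hx, map_zero]
    obtain ⟨t, ht⟩ := (IsLocalizedModule.eq_zero_iff T (AlgebraTensorModule.rTensor A R ι)).1 h0
    refine ⟨t, ?_⟩
    have hΦ : ∀ w : N₀B ⊗[A] R, cA.symm (f1.symm ((t : B) • w)) = (t : B) • cA.symm (f1.symm w) := fun w => by
      induction w using TensorProduct.induction_on with
      | zero => simp only [map_zero, smul_zero]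
      | tmul y r =>
        show cA.symm (r ⊗ₜ ((t : B) • y)) = (t : B) • cA.symm (r ⊗ₜ y)
        rw [show r ⊗ₜ[A] ((t : B) • y) = r • ((1 : R) ⊗ₜ[A] ((t : B) • y)) by rw [TensorProduct.smul_tmul', smul_eq_mul, mul_one],
          show r ⊗ₜ[A] y = r • ((1 : R) ⊗ₜ[A] y) by rw [TensorProduct.smul_tmul', smul_eq_mul, mul_one],
          map_smul, map_smul, hcA, hcA, ← algebraMap_smul B₁ r, ← algebraMap_smul B₁ r, ← hb,
          ← algebraMap_smul B₁ (t : B) (algebraMap R B₁ r • _), smul_smul, smul_smul, mul_comm]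
      | add a b ha hb => simp only [smul_add, map_add, ha, hb]
    have := hΦ (f1 z)
    rw [show (t : B) • f1 z = 0 from ht, map_zero, map_zero, f1.symm_apply_apply] at this
    exact this.symm
  have hKg : K ≤ LinearMap.ker gB := fun x hx => by
    have h1 : gB (π₀ h₀ • x) = 0 := (congrArg gB hx).trans (map_zero _)
    rw [map_smul, hπh, algebraMap_smul] at h1
    exact hTunit ⟨π h, hS⟩ (gB x) h1
  let g : M₁ ⧸ K →ₗ[B₁] N₁ := K.liftQ gB hKg
  have hg : IsBaseChange L₁ g := by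
    refine (isLocalizedModule_iff_isBaseChange T₁ L₁ g).1 ⟨fun t => ?_, fun y => ?_, fun {x y} hxy => ?_⟩
    · rw [Module.End.isUnit_iff]
      have hu : IsUnit (algebraMap B₁ L₁ (t : B₁)) := IsLocalization.map_units L₁ t
      refine ⟨fun a b hab => hu.smul_left_cancel.1 hab, fun a => ⟨(↑hu.unit⁻¹ : L₁) • a, ?_⟩⟩
      show algebraMap B₁ L₁ (t : B₁) • ((↑hu.unit⁻¹ : L₁) • a) = a
      rw [smul_smul, IsUnit.mul_val_inv, one_smul]
    · obtain ⟨t, x, hx⟩ := hsurj y
      refine ⟨⟨K.mkQ x, ⟨_, Submonoid.mem_map_of_mem _ t.2⟩⟩, ?_⟩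
      show algebraMap B B₁ (t : B) • y = gB x
      rw [algebraMap_smul, hx]
    · obtain ⟨x, rfl⟩ := K.mkQ_surjective x
      obtain ⟨y, rfl⟩ := K.mkQ_surjective y
      obtain ⟨t, ht⟩ := hzero (x - y) (by rw [map_sub]; exact sub_eq_zero.2 hxy)
      refine ⟨⟨_, Submonoid.mem_map_of_mem _ t.2⟩, ?_⟩
      show algebraMap B B₁ (t : B) • K.mkQ x = algebraMap B B₁ (t : B) • K.mkQ y
      rw [← sub_eq_zero, ← smul_sub, ← map_sub, ← map_smul, algebraMap_smul, ht, map_zero]
  haveI : Module.FinitePresentation B₁ M₁ := inferInstance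
  have hfp : Module.FinitePresentation B₁ (M₁ ⧸ K) :=
    Module.finitePresentation_of_surjective K.mkQ K.mkQ_surjective (by rw [Submodule.ker_mkQ]; exact hKfg)
  -- splitting
  let γ : κ ⊗[A₀] N₀ →ₗ[κ] κ ⊗[A₀] N₀ := ((LinearMap.lsmul P₀ N₀ h₀).restrictScalars A₀).baseChange κ
  let η : M₁ →ₗ[R] M₁ := (LinearMap.lsmul B₁ M₁ (π₀ h₀)).restrictScalars R
  have hEγ : ∀ v, η (E (1 ⊗ₜ v)) = E (1 ⊗ₜ γ v) := fun v => by
    induction v using TensorProduct.induction_on with
    | zero => simp only [tmul_zero, map_zero]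
    | tmul c y =>
      have hc : ∀ z : N₀, (c ⊗ₜ[A₀] z : κ ⊗[A₀] N₀) = c • ((1 : κ) ⊗ₜ[A₀] z) := fun z => by
        rw [TensorProduct.smul_tmul', smul_eq_mul, mul_one]
      rw [show γ (c ⊗ₜ y) = c ⊗ₜ (h₀ • y) from rfl, hc, hc, tmul_smul, tmul_smul, ← algebraMap_smul R c,
        ← algebraMap_smul R c ((1 : R) ⊗ₜ[κ] ((1 : κ) ⊗ₜ[A₀] (h₀ • y))), map_smul, map_smul, map_smul, hπ₀]
      rfl
    | add a b ha hb => simp only [tmul_add, map_add, ha, hb]
  let eM : k ⊗[A] N₀B ≃ₗ[k] k ⊗[R] M₁ :=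
    (AlgebraTensorModule.cancelBaseChange A R k k N₀B).symm ≪≫ₗ cA.symm.baseChange R k _ _
  let wN : k ⊗[A] N ≃ₗ[k] k ⊗[R] N₁ :=
    (AlgebraTensorModule.cancelBaseChange A R k k N).symm ≪≫ₗ eN.baseChange R k _ _
  let q : M₁ →ₗ[R] M₁ ⧸ K := K.mkQ.restrictScalars R
  have hkg : ∀ d : k ⊗[R] M₁, ((g.restrictScalars R) ∘ₗ q).baseChange k d = 0 → η.baseChange k d = 0 := fun d hd => by
    obtain ⟨z, rfl⟩ := eM.surjective d
    have h1 : ∀ z, ((g.restrictScalars R) ∘ₗ q).baseChange k (eM z) = wN ((ιP.restrictScalars A).lTensor k z) := fun z => by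
      induction z using TensorProduct.induction_on with
      | zero => simp only [map_zero]
      | tmul c x =>
        show c ⊗ₜ[R] gB (cA.symm ((1 : R) ⊗ₜ[A] x)) = c ⊗ₜ[R] eN ((1 : R) ⊗ₜ[A] ι x)
        rw [hgR]; rfl
      | add a b ha hb => simp only [map_add, ha, hb]
    have h2 : ∀ z, η.baseChange k (eM z) = eM (((LinearMap.lsmul P N₀B h).restrictScalars A).lTensor k z) := fun z => by
      induction z using TensorProduct.induction_on with
      | zero => simp only [map_zero]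
      | tmul c x =>
        show c ⊗ₜ[R] (π₀ h₀ • cA.symm ((1 : R) ⊗ₜ[A] x)) = c ⊗ₜ[R] cA.symm ((1 : R) ⊗ₜ[A] (h • x))
        rw [hcA, hcA, hπh, hb, hπsmul]
      | add a b ha hb => simp only [map_add, ha, hb]
    rw [h1, LinearEquiv.map_eq_zero_iff] at hd
    rw [h2, hker z hd, map_zero]
  obtain ⟨hfree, hinj⟩ := core hk hks γ η E hEγ q K.mkQ_surjective (fun y => Submodule.Quotient.mk_eq_zero K)
    (g.restrictScalars R) hkg
  haveI := hfree
  haveI : Module.Flat B₁ L₁ := IsLocalization.flat L₁ T₁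
  haveI : Module.Flat R (L₁ ⊗[B₁] (M₁ ⧸ K)) := GrothLib.FlatDesc.flat_tensor
  have hflat : Module.Flat R N₁ := Module.Flat.of_linearEquiv (hg.equiv.restrictScalars R).symm
  refine ⟨B₁, inferInstance, Algebra.id B₁, inferInstance, inferInstance, inferInstance, inferInstance, inferInstance,
    inferInstance, inferInstance, inferInstance, M₁ ⧸ K, inferInstance, inferInstance, inferInstance, inferInstance, g,
    ?_, hfp, hg, Module.Projective.of_free, fun Q _ _ => hinj hflat Q⟩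
  rw [show CommRingCat.ofHom (algebraMap B₁ B₁) = CategoryTheory.CategoryStruct.id (CommRingCat.of B₁) from rfl,
    AlgebraicGeometry.Spec.map_id]
  infer_instance

end GrothLib.PureSpread
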